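import Groth.Agent.Lib.NPow20.Base
import Groth.Prelude.Def_PicRel2

/-!
# Unique lifting for the power map of a relative Picard scheme
-/

set_option autoImplicit false
set_option linter.style.haveILetI false
set_option backward.isDefEq.respectTransparency false
set_option backward.isDefEq.respectTransparency.types false

universe u

open CategoryTheory CategoryTheory.Limits AlgebraicGeometry Opposite TensorProduct

namespace Groth.Agent.NPow20

attribute [local instance] M2.law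

variable {X S : Scheme.{u}}

/-- The data of the power map. -/
structure PowData (f : X ⟶ S) (n : ℕ) where
  P : Over S
  φ : ∀ T : Over S, PicF.Cl (PicF.XT f T) → (T ⟶ P)
  hP : PicRel.IsRelPic f P φ
  m : P ⟶ P
  hm : ∀ (T : Over S) (L : (PicF.XT f T).Modules), PicF.IsInvertible L →
    φ T (PicF.cl (CohB1.tensorPow L n)) = φ T (PicF.cl L) ≫ m

variable {f : X ⟶ S} {n : ℕ} (D : PowData f n)

namespace PowData

/-- The value on an invertible class. -/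
abbrev ev {T : Over S} (c : PicLoc.PicSet (PicF.XT f T)) : T ⟶ D.P := D.φ T c.1

theorem ev_pl {T T' : Over S} (g : T' ⟶ T) (c : PicLoc.PicSet (PicF.XT f T)) :
    D.ev (pl (PicF.XTmap f g) c) = g ≫ D.ev c :=
  D.hP.natural T T' g c.1 c.2

theorem ev_pow {T : Over S} (c : PicLoc.PicSet (PicF.XT f T)) : D.ev (c ^ n) = D.ev c ≫ D.m := by
  obtain ⟨L, hL, rfl⟩ := PicGrp.exists_eq_cls c
  rw [← FGA3.cls_tensorPow hL n]
  exact D.hm T L hL

end PowData

theorem pl_XTmap {T T' T'' : Over S} (g : T'' ⟶ T') (h : T' ⟶ T) (c : PicLoc.PicSet (PicF.XT f T)) :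
    pl (PicF.XTmap f g) (pl (PicF.XTmap f h) c) = pl (PicF.XTmap f (g ≫ h)) c := by
  rw [← pl_comp]
  refine Subtype.ext ?_
  rw [PicGrp.pullHom_apply_val, PicGrp.pullHom_apply_val, HilbBC25.XTmap_comp]

variable {A : Type u} [CommRing A] [IsLocalRing A] [IsArtinianRing A] {I : Ideal A} {t : Spec (.of A) ⟶ S}

/-- Étale local surjectivity on a test object. -/
theorem exists_ev (v : Ts A t ⟶ D.P) :
    ∃ (E : Ext A) (c : PicLoc.PicSet (PicF.XT f (Ts E.C (tE E t)))), D.ev c = pE E t ≫ v := by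
  obtain ⟨ι, U, hU, hc⟩ := D.hP.locallySurjective (Ts A t) v
  obtain ⟨E, i, j, hj⟩ := exists_ext_cover (RingHom.id A) Function.surjective_id U hU
  let k : Spec (.of E.C) ⟶ (U i).left :=
    Spec.map (CommRingCat.ofHom (Ideal.Quotient.lift _ (RingHom.id E.C) (fun a ha => by
      have h0 : RingHom.ker (RingHom.id A) = (⊥ : Ideal A) := by ext; simp
      rw [h0, Ideal.map_bot, Ideal.mem_bot] at ha
      exact ha))) ≫ j
  have hk : k ≫ (U i).hom = Spec.map (CommRingCat.ofHom E.α) := by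
    have hj' : j ≫ (U i).hom = Spec.map (CommRingCat.ofHom ((Ideal.Quotient.mk _).comp E.α)) := by
      have hj2 := hj
      rw [CommRingCat.ofHom_id, Spec.map_id] at hj2
      exact (congrArg (j ≫ ·) (Category.comp_id (U i).hom)).symm.trans hj2
    show (_ ≫ j) ≫ _ = _
    rw [Category.assoc, hj', ← Spec.map_comp, ← CommRingCat.ofHom_comp, ← RingHom.comp_assoc,
      Ideal.Quotient.lift_comp_mk, RingHom.id_comp]
  let g : Ts E.C (tE E t) ⟶ PicRel.ovr (Ts A t) (U i) := Over.homMk k (by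
    show k ≫ (U i).hom ≫ t = _
    rw [← Category.assoc, hk]; rfl)
  obtain ⟨c, hc1, hc2⟩ := hc i
  refine ⟨E, pl (PicF.XTmap f g) ⟨c, hc1⟩, ?_⟩
  rw [D.ev_pl, show g ≫ D.ev ⟨c, hc1⟩ = g ≫ PicRel.ovrHom (Ts A t) (U i) ≫ v from congrArg (g ≫ ·) hc2,
    ← Category.assoc]
  congr 1
  ext1
  exact hk

/-- Étale local injectivity on a test object. -/
theorem exists_eq (c c' : PicLoc.PicSet (PicF.XT f (Ts A t))) (h : D.ev c = D.ev c') :
    ∃ E : Ext A, pl (PicF.XTmap f (pE E t)) c = pl (PicF.XTmap f (pE E t)) c' := by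
  obtain ⟨ι, U, hU, hc⟩ := D.hP.locallyInjective (Ts A t) c.1 c'.1 c.2 c'.2 h
  obtain ⟨E, i, j, hj⟩ := exists_ext_cover (RingHom.id A) Function.surjective_id U hU
  let k : Spec (.of E.C) ⟶ (U i).left :=
    Spec.map (CommRingCat.ofHom (Ideal.Quotient.lift _ (RingHom.id E.C) (fun a ha => by
      have h0 : RingHom.ker (RingHom.id A) = (⊥ : Ideal A) := by ext; simp
      rw [h0, Ideal.map_bot, Ideal.mem_bot] at ha
      exact ha))) ≫ j
  have hk : k ≫ (U i).hom = Spec.map (CommRingCat.ofHom E.α) := by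
    have hj' : j ≫ (U i).hom = Spec.map (CommRingCat.ofHom ((Ideal.Quotient.mk _).comp E.α)) := by
      have hj2 := hj
      rw [CommRingCat.ofHom_id, Spec.map_id] at hj2
      exact (congrArg (j ≫ ·) (Category.comp_id (U i).hom)).symm.trans hj2
    show (_ ≫ j) ≫ _ = _
    rw [Category.assoc, hj', ← Spec.map_comp, ← CommRingCat.ofHom_comp, ← RingHom.comp_assoc,
      Ideal.Quotient.lift_comp_mk, RingHom.id_comp]
  let g : Ts E.C (tE E t) ⟶ PicRel.ovr (Ts A t) (U i) := Over.homMk k (by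
    show k ≫ (U i).hom ≫ t = _
    rw [← Category.assoc, hk]; rfl)
  have hg : g ≫ PicRel.ovrHom (Ts A t) (U i) = pE E t := by ext1; exact hk
  refine ⟨E, ?_⟩
  rw [← hg, ← pl_XTmap, ← pl_XTmap]
  exact congrArg _ (Subtype.ext (hc i))

theorem exists_cover_quot (hI : I ≠ ⊤) {ι : Type u} (U : ι → (Ts0 I t).left.Etale) (hU : EtCoh.Covers U) :
    ∃ (E : Ext A) (i : ι) (g : Ts0 (I.map E.α) (tE E t) ⟶ PicRel.ovr (Ts0 I t) (U i)),
      g ≫ PicRel.ovrHom (Ts0 I t) (U i) = pE0 E I t := by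
  haveI : Nontrivial (A ⧸ I) := Ideal.Quotient.nontrivial_iff.2 hI
  have h := exists_ext_cover (Ideal.Quotient.mk I) Ideal.Quotient.mk_surjective U hU
  rw [Ideal.mk_ker] at h
  obtain ⟨E, i, j, hj⟩ := h
  haveI : IsClosedImmersion (Spec.map (CommRingCat.ofHom (Ideal.Quotient.mk I))) :=
    IsClosedImmersion.spec_of_surjective _ Ideal.Quotient.mk_surjective
  have hk : j ≫ (U i).hom = Spec.map (CommRingCat.ofHom (qmap E I)) := by
    rw [← cancel_mono (Spec.map (CommRingCat.ofHom (Ideal.Quotient.mk I))), Category.assoc, hj,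
      ← Spec.map_comp, ← CommRingCat.ofHom_comp, Ideal.quotientMap_comp_mk]
  refine ⟨E, i, Over.homMk j ?_, ?_⟩
  · show j ≫ (U i).hom ≫ _ = _
    rw [reassoc_of% hk]
    exact qmap_h E I t
  · ext1
    exact hk

/-- Étale local surjectivity on a reduction. -/
theorem exists_ev0 (hI : I ≠ ⊤) (v : Ts0 I t ⟶ D.P) :
    ∃ (E : Ext A) (c : PicLoc.PicSet (PicF.XT f (Ts0 (I.map E.α) (tE E t)))), D.ev c = pE0 E I t ≫ v := by
  obtain ⟨ι, U, hU, hc⟩ := D.hP.locallySurjective (Ts0 I t) v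
  obtain ⟨E, i, g, hg⟩ := exists_cover_quot hI U hU
  obtain ⟨c, hc1, hc2⟩ := hc i
  refine ⟨E, pl (PicF.XTmap f g) ⟨c, hc1⟩, ?_⟩
  rw [D.ev_pl, show g ≫ D.ev ⟨c, hc1⟩ = g ≫ PicRel.ovrHom (Ts0 I t) (U i) ≫ v from congrArg (g ≫ ·) hc2,
    ← Category.assoc, hg]

/-- Étale local injectivity on a reduction. -/
theorem exists_eq0 (hI : I ≠ ⊤) (c c' : PicLoc.PicSet (PicF.XT f (Ts0 I t))) (h : D.ev c = D.ev c') :
    ∃ E : Ext A, pl (PicF.XTmap f (pE0 E I t)) c = pl (PicF.XTmap f (pE0 E I t)) c' := by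
  obtain ⟨ι, U, hU, hc⟩ := D.hP.locallyInjective (Ts0 I t) c.1 c'.1 c.2 c'.2 h
  obtain ⟨E, i, g, hg⟩ := exists_cover_quot hI U hU
  refine ⟨E, ?_⟩
  rw [← hg, ← pl_XTmap, ← pl_XTmap]
  exact congrArg _ (Subtype.ext (hc i))

theorem ker_mul_ker_mk (h : I * I = ⊥) :
    (Spec.map (CommRingCat.ofHom (Ideal.Quotient.mk I))).ker *
      (Spec.map (CommRingCat.ofHom (Ideal.Quotient.mk I))).ker = ⊥ := by
  refine le_bot_iff.1 (Scheme.IdealSheafData.le_of_isAffine ?_)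
  rw [Scheme.IdealSheafData.ideal_mul, Pi.mul_apply, Scheme.Hom.ker_apply, Ideal.mul_le]
  intro x hx y hy
  rw [show (⊥ : (Spec (CommRingCat.of A)).IdealSheafData).ideal ⟨⊤, isAffineOpen_top _⟩ = ⊥ from rfl, Ideal.mem_bot]
  have key : ∀ x : Γ(Spec (CommRingCat.of A), ⊤), (Spec.map (CommRingCat.ofHom (Ideal.Quotient.mk I))).appTop x = 0 →
      (Scheme.ΓSpecIso (CommRingCat.of A)).hom x ∈ I := fun x hx => by
    rw [← Ideal.Quotient.eq_zero_iff_mem]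
    have h := ConcreteCategory.congr_hom (Scheme.ΓSpecIso_naturality (CommRingCat.ofHom (Ideal.Quotient.mk I))) x
    refine Eq.trans ?_ ((congrArg _ hx).trans (map_zero (Scheme.ΓSpecIso (CommRingCat.of (A ⧸ I))).hom.hom))
    exact h.symm
  have h0 : (Scheme.ΓSpecIso (CommRingCat.of A)).hom x * (Scheme.ΓSpecIso (CommRingCat.of A)).hom y = 0 := by
    rw [← Ideal.mem_bot, ← h]
    exact Ideal.mul_mem_mul (key x hx) (key y hy)
  rw [← map_mul] at h0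
  exact (ConcreteCategory.bijective_of_isIso (Scheme.ΓSpecIso (CommRingCat.of A)).hom).1 (h0.trans (map_zero (Scheme.ΓSpecIso (CommRingCat.of A)).hom.hom).symm)

/-- Unique roots over an Artinian test object. -/
theorem existsUnique_root_test [IsProper f] (hII : I * I = ⊥) (hn : IsUnit (n : A))
    (c : PicLoc.PicSet (PicF.XT f (Ts0 I t))) (l : PicLoc.PicSet (PicF.XT f (Ts A t)))
    (h : pl (PicF.XTmap f (tmk I t)) l = c ^ n) :
    ∃! d, pl (PicF.XTmap f (tmk I t)) d = c ∧ d ^ n = l := by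
  haveI : IsClosedImmersion (tmk I t).left := IsClosedImmersion.spec_of_surjective _ Ideal.Quotient.mk_surjective
  haveI : IsClosedImmersion (PicF.XTmap f (tmk I t)) :=
    MorphismProperty.of_isPullback (HilbBC25.isPullback_XTmap f (tmk I t)).flip inferInstance
  refine existsUnique_root' (PicF.XTproj f (Ts A t)) (PicF.XTmap f (tmk I t)) ?_ hn c l h
  rw [FormalH7.ker_of_isPullback (HilbBC25.isPullback_XTmap f (tmk I t)), ← EffCartier.comap_mul]
  exact (congrArg (Scheme.IdealSheafData.comap · _) (ker_mul_ker_mk hII)).trans (Scheme.IdealSheafData.comap_bot _)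

/-- Lifts are unique. -/
theorem lift_unique [IsProper f] (hI : I ≠ ⊤) (hII : I * I = ⊥) (hn : IsUnit (n : A)) (w w' : Ts A t ⟶ D.P)
    (h0 : tmk I t ≫ w = tmk I t ≫ w') (hw : w ≫ D.m = w' ≫ D.m) : w = w' := by
  obtain ⟨E₁, c, hc⟩ := exists_ev D w
  obtain ⟨E₂, c', hc'⟩ := exists_ev D (pE E₁ t ≫ w')
  let t₁ := tE E₁ t
  let t₂ := tE E₂ t₁
  let q := pE E₂ t₁ ≫ pE E₁ t
  obtain ⟨c₂, hd₂⟩ : ∃ x, x = pl (PicF.XTmap f (pE E₂ t₁)) c := ⟨_, rfl⟩
  have hc₂ : D.ev c₂ = q ≫ w := by rw [hd₂, D.ev_pl, hc, Category.assoc]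
  have hc₂' : D.ev c' = q ≫ w' := by rw [hc', Category.assoc]
  haveI := epi_pE E₁ t
  haveI := epi_pE E₂ t₁
  rw [← cancel_epi (pE E₁ t), ← cancel_epi (pE E₂ t₁), ← Category.assoc, ← Category.assoc]
  show q ≫ w = q ≫ w'
  rw [← hc₂, ← hc₂']
  let I₂ := (I.map E₁.α).map E₂.α
  have hI₂ : I₂ ≠ ⊤ := map_ne_top E₂ (map_ne_top E₁ hI)
  have hII₂ : I₂ * I₂ = ⊥ := map_mul_self E₂ (map_mul_self E₁ hII)
  have h0₂ : D.ev (pl (PicF.XTmap f (tmk I₂ t₂)) c₂) = D.ev (pl (PicF.XTmap f (tmk I₂ t₂)) c') := by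
    have e : tmk I₂ t₂ ≫ q = (pE0 E₂ (I.map E₁.α) t₁ ≫ pE0 E₁ I t) ≫ tmk I t := by
      rw [Category.assoc, pE0_tmk, ← Category.assoc, ← Category.assoc, pE0_tmk]
    rw [D.ev_pl, D.ev_pl, hc₂, hc₂']
    refine (Category.assoc _ _ _).symm.trans (Eq.trans ?_ (Category.assoc _ _ _))
    rw [e]
    simp only [Category.assoc, h0]
  obtain ⟨E₃, h3⟩ := exists_eq0 D hI₂ _ _ h0₂
  let t₃ := tE E₃ t₂
  haveI := epi_pE E₃ t₂
  rw [← cancel_epi (pE E₃ t₂), ← D.ev_pl, ← D.ev_pl]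
  obtain ⟨c₃, hd₃⟩ : ∃ x, x = pl (PicF.XTmap f (pE E₃ t₂)) c₂ := ⟨_, rfl⟩
  obtain ⟨c₃', hd₃'⟩ : ∃ x, x = pl (PicF.XTmap f (pE E₃ t₂)) c' := ⟨_, rfl⟩
  rw [← hd₃, ← hd₃']
  have h3' : pl (PicF.XTmap f (tmk (I₂.map E₃.α) t₃)) c₃ = pl (PicF.XTmap f (tmk (I₂.map E₃.α) t₃)) c₃' := by
    rw [hd₃, hd₃', pl_XTmap, pl_XTmap, ← pE0_tmk, ← pl_XTmap, ← pl_XTmap, h3]
  have hpow : D.ev (c₃ ^ n) = D.ev (c₃' ^ n) := by
    rw [D.ev_pow, D.ev_pow, hd₃, hd₃', D.ev_pl, D.ev_pl, hc₂, hc₂']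
    simp only [Category.assoc, hw]
  obtain ⟨E₄, h4⟩ := exists_eq D _ _ hpow
  haveI := epi_pE E₄ t₃
  rw [← cancel_epi (pE E₄ t₃), ← D.ev_pl, ← D.ev_pl]
  congr 1
  let I₃ := I₂.map E₃.α
  let t₄ := tE E₄ t₃
  have hn₄ : IsUnit (n : E₄.C) := E₄.isUnit_natCast (E₃.isUnit_natCast (E₂.isUnit_natCast (E₁.isUnit_natCast hn)))
  have hII₄ : I₃.map E₄.α * I₃.map E₄.α = ⊥ := map_mul_self E₄ (map_mul_self E₃ hII₂)
  have h5 : pl (PicF.XTmap f (tmk (I₃.map E₄.α) t₄)) (pl (PicF.XTmap f (pE E₄ t₃)) c₃) =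
      pl (PicF.XTmap f (tmk (I₃.map E₄.α) t₄)) (pl (PicF.XTmap f (pE E₄ t₃)) c₃') := by
    rw [pl_XTmap, pl_XTmap, ← pE0_tmk, ← pl_XTmap, ← pl_XTmap, h3']
  obtain ⟨d, -, hd⟩ := existsUnique_root_test (f := f) hII₄ hn₄
    (pl (PicF.XTmap f (tmk (I₃.map E₄.α) t₄)) (pl (PicF.XTmap f (pE E₄ t₃)) c₃))
    ((pl (PicF.XTmap f (pE E₄ t₃)) c₃) ^ n) (map_pow _ _ _)
  refine (hd _ ⟨rfl, rfl⟩).trans (hd _ ⟨h5.symm, ?_⟩).symm
  rw [← map_pow, ← map_pow]
  exact h4.symm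

end Groth.Agent.NPow20
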