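import Groth.Prelude.Def_EtBase
import Mathlib.RingTheory.Unramified.LocalStructure
import Mathlib.RingTheory.QuasiFinite.Basic
import Mathlib.RingTheory.Etale.StandardEtale
import Mathlib.AlgebraicGeometry.Morphisms.Etale

/-!
# Étale coverings of spectra of quotients of Artinian local rings, refined by finite flat local algebras
-/

set_option autoImplicit false
set_option linter.style.haveILetI false
set_option backward.isDefEq.respectTransparency false
set_option backward.isDefEq.respectTransparency.types false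

universe u

open CategoryTheory AlgebraicGeometry Polynomial

namespace Groth.Agent.NPow20

/-- A finite flat local algebra over an Artinian local ring. -/
structure Ext (A : Type u) [CommRing A] where
  C : Type u
  [ring : CommRing C]
  [isLocalRing : IsLocalRing C]
  [isArtinian : IsArtinianRing C]
  α : A →+* C
  flat : α.Flat
  finite : α.Finite

attribute [instance] Ext.ring Ext.isLocalRing Ext.isArtinian

namespace Ext

variable {A : Type u} [CommRing A]

/-- Composition of extensions. -/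
def comp (E : Ext A) (E' : Ext E.C) : Ext A where
  C := E'.C
  α := E'.α.comp E.α
  flat := E.flat.comp E'.flat
  finite := E'.finite.comp E.finite

variable [IsLocalRing A] [IsArtinianRing A] (E : Ext A)

theorem isLocalHom : IsLocalHom E.α := by
  refine ⟨fun a ha => ?_⟩
  by_contra h
  have hn : IsNilpotent a := by
    rw [← mem_nilradical, Ring.KrullDimLE.nilradical_eq_maximalIdeal]
    exact h
  exact (hn.map E.α).not_isUnit ha

theorem isUnit_natCast {n : ℕ} (hn : IsUnit (n : A)) : IsUnit (n : E.C) := map_natCast E.α n ▸ hn.map E.α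

theorem surjective : Surjective (Spec.map (CommRingCat.ofHom E.α)) :=
  ⟨fun x => ⟨IsLocalRing.closedPoint E.C, Subsingleton.elim (α := PrimeSpectrum A) _ _⟩⟩

end Ext

/-- The key step: a nonzero standard étale algebra over a quotient lifts. -/
theorem exists_ext_hasMap {A A₀ R₁ : Type u} [CommRing A] [IsArtinianRing A] [CommRing A₀] [Algebra A A₀]
    (hs : Function.Surjective (algebraMap A A₀)) [CommRing R₁] [Nontrivial R₁] [Algebra A₀ R₁]
    (P₀ : StandardEtalePair A₀) (x₀ : R₁) (hx₀ : P₀.HasMap x₀) :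
    ∃ (E : Ext A) (x : E.C ⧸ (RingHom.ker (algebraMap A A₀)).map E.α) (j : A₀ →+* E.C ⧸ (RingHom.ker (algebraMap A A₀)).map E.α),
      j.comp (algebraMap A A₀) = (Ideal.Quotient.mk _).comp E.α ∧ P₀.f.eval₂ j x = 0 ∧ IsUnit (P₀.g.eval₂ j x) := by
  let π := algebraMap A A₀
  haveI : Nontrivial A₀ := (algebraMap A₀ R₁).domain_nontrivial
  have hsX : Function.Surjective (Polynomial.map π) := Polynomial.map_surjective π hs
  obtain ⟨p₁, p₂, m, hcond⟩ := P₀.cond
  obtain ⟨F, hF, -, hFm⟩ := Polynomial.lifts_and_degree_eq_and_monic (f := π) (p := P₀.f) (hsX P₀.f) P₀.monic_f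
  obtain ⟨G, hG⟩ := hsX P₀.g
  obtain ⟨q₁, hq₁⟩ := hsX p₁
  obtain ⟨q₂, hq₂⟩ := hsX p₂
  let P : StandardEtalePair A :=
    { f := F
      monic_f := hFm
      g := G * (derivative F * q₁ + F * q₂)
      cond := ⟨G * q₁, G * q₂, 1, by ring⟩ }
  have hg : P.g.map π = P₀.g ^ (m + 1) := by
    simp only [P, Polynomial.map_mul, Polynomial.map_add, ← Polynomial.derivative_map, hF, hG, hq₁, hq₂, hcond, pow_succ']
  letI : Algebra A R₁ := ((algebraMap A₀ R₁).comp π).toAlgebra
  haveI : IsScalarTower A A₀ R₁ := IsScalarTower.of_algebraMap_eq fun _ => rfl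
  have hP₁ : P.HasMap x₀ := by
    refine ⟨?_, ?_⟩
    · show aeval x₀ F = 0
      rw [← aeval_map_algebraMap A₀, hF]
      exact hx₀.1
    · rw [← aeval_map_algebraMap A₀, hg, map_pow]
      exact hx₀.2.pow _
  obtain ⟨M, hM⟩ := Ideal.exists_maximal R₁
  let N : Ideal P.Ring := M.comap (P.lift x₀ hP₁)
  haveI : N.IsPrime := hM.isPrime.comap _
  haveI : Algebra.QuasiFinite A P.Ring := inferInstance
  haveI : Module.Finite A P.Ring := Module.Finite.of_quasiFinite
  haveI : IsArtinianRing P.Ring := IsArtinianRing.of_finite A P.Ring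
  let C := Localization.AtPrime N
  haveI : IsArtinianRing C :=
    (IsArtinianRing.localization_surjective N.primeCompl C).isArtinianRing
  let α : A →+* C := (algebraMap P.Ring C).comp (algebraMap A P.Ring)
  have hflat : α.Flat := RingHom.Flat.comp (RingHom.flat_algebraMap_iff.2 inferInstance)
    (RingHom.flat_algebraMap_iff.2 (IsLocalization.flat C N.primeCompl))
  have hfin : α.Finite := RingHom.Finite.comp
    (RingHom.Finite.of_surjective _ (IsArtinianRing.localization_surjective N.primeCompl C))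
    (RingHom.finite_algebraMap.2 inferInstance)
  let J : Ideal C := (RingHom.ker π).map α
  let j : A₀ →+* C ⧸ J := RingHom.liftOfSurjective π hs
    ⟨(Ideal.Quotient.mk J).comp α, fun a ha =>
      Ideal.Quotient.eq_zero_iff_mem.2 (Ideal.mem_map_of_mem α ha)⟩
  have hj : j.comp π = (Ideal.Quotient.mk J).comp α := RingHom.liftOfSurjective_comp _ _ _
  refine ⟨⟨C, α, hflat, hfin⟩, Ideal.Quotient.mk J (algebraMap P.Ring C P.X), j, hj, ?_, ?_⟩
  · rw [← hF, eval₂_map, hj, ← hom_eval₂, ← hom_eval₂]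
    show Ideal.Quotient.mk J (algebraMap P.Ring C (aeval P.X P.f)) = 0
    rw [P.hasMap_X.1, map_zero, map_zero]
  · refine (isUnit_pow_iff m.succ_ne_zero).1 ?_
    rw [← eval₂_pow, ← hg, eval₂_map, hj, ← hom_eval₂, ← hom_eval₂]
    exact (P.hasMap_X.2.map _).map _

/-- Étale coverings of a quotient are refined by finite flat local algebras. -/
theorem exists_ext_cover {A A₀ : Type u} [CommRing A] [IsArtinianRing A] [CommRing A₀] [Nontrivial A₀]
    (π : A →+* A₀) (hs : Function.Surjective π) {ι : Type u} (U : ι → (Spec (.of A₀)).Etale)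
    (hU : EtCoh.Covers U) :
    ∃ (E : Ext A) (i : ι) (j : Spec (.of (E.C ⧸ (RingHom.ker π).map E.α)) ⟶ (U i).left),
      j ≫ (U i).hom ≫ Spec.map (CommRingCat.ofHom π) =
        Spec.map (CommRingCat.ofHom ((Ideal.Quotient.mk _).comp E.α)) := by
  letI : Algebra A A₀ := π.toAlgebra
  obtain ⟨y⟩ : Nonempty (Spec (.of A₀)) := inferInstance
  obtain ⟨i, z, -⟩ := hU y
  obtain ⟨V, hV, hzV, -⟩ := exists_isAffineOpen_mem_and_subset (X := (U i).left) (x := z) (U := ⊤) trivial
  haveI : Etale (U i).hom := (U i).prop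
  obtain ⟨φ, hφ⟩ := Spec.map_surjective (hV.fromSpec ≫ (U i).hom)
  have hφe : φ.hom.Etale := (HasRingHomProperty.Spec_iff (P := @Etale)).1 (by rw [hφ]; infer_instance)
  letI : Algebra A₀ Γ((U i).left, V) := φ.hom.toAlgebra
  haveI : Algebra.Etale A₀ Γ((U i).left, V) := hφe
  haveI : Nonempty V := ⟨⟨z, hzV⟩⟩
  haveI : Nontrivial Γ((U i).left, V) := inferInstance
  obtain ⟨Q, hQ⟩ := Ideal.exists_maximal Γ((U i).left, V)
  obtain ⟨f, hf, hstd⟩ := Algebra.IsEtaleAt.exists_isStandardEtale (R := A₀) Q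
  obtain ⟨⟨P₀⟩⟩ := hstd
  haveI : Nontrivial (Localization.Away f) := by
    rw [← not_subsingleton_iff_nontrivial, IsLocalization.subsingleton_iff (S := Localization.Away f) (M := Submonoid.powers f)]
    rintro ⟨k, hk⟩
    exact hf (hQ.isPrime.mem_of_pow_mem k (by rw [show f ^ k = 0 from hk]; exact Q.zero_mem))
  obtain ⟨E, x, j, hj, h1, h2⟩ := exists_ext_hasMap hs P₀.P P₀.x P₀.hasMap
  letI : Algebra A₀ (E.C ⧸ (RingHom.ker π).map E.α) := j.toAlgebra
  let g : Γ((U i).left, V) →ₐ[A₀] E.C ⧸ (RingHom.ker π).map E.α :=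
    ((P₀.P.lift x ⟨h1, h2⟩).comp P₀.equivRing.toAlgHom).comp (IsScalarTower.toAlgHom A₀ _ _)
  refine ⟨E, i, Spec.map (CommRingCat.ofHom g.toRingHom) ≫ hV.fromSpec, ?_⟩
  rw [Category.assoc, reassoc_of% hφ.symm, ← Spec.map_comp, ← Spec.map_comp]
  congr 1
  ext a
  exact (g.commutes (π a)).trans (RingHom.congr_fun hj a)

end Groth.Agent.NPow20
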