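import Groth.Agent.Lib.NPow20.Pic
import Groth.Agent.Lib.NPow20.Cover
import Groth.Agent.Lib.HilbBC25.Basic
import Groth.Agent.Lib.FormalH7.Ideal
import Mathlib.AlgebraicGeometry.Sites.Fpqc
import Mathlib.RingTheory.TensorProduct.Quotient

/-!
# Artinian test objects over a base scheme
-/

set_option autoImplicit false
set_option linter.style.haveILetI false
set_option backward.isDefEq.respectTransparency false
set_option backward.isDefEq.respectTransparency.types false

universe u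

open CategoryTheory CategoryTheory.Limits AlgebraicGeometry Opposite TensorProduct

namespace Groth.Agent.NPow20

variable {S : Scheme.{u}}

/-- `Spec A` over `S`. -/
noncomputable abbrev Ts (A : Type u) [CommRing A] (t : Spec (.of A) ⟶ S) : Over S := Over.mk t

/-- The morphism of test objects given by a ring map. -/
noncomputable def tm {A B : Type u} [CommRing A] [CommRing B] {t : Spec (.of A) ⟶ S} {t' : Spec (.of B) ⟶ S}
    (α : A →+* B) (h : Spec.map (CommRingCat.ofHom α) ≫ t = t') : Ts B t' ⟶ Ts A t :=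
  Over.homMk (Spec.map (CommRingCat.ofHom α)) h

theorem tm_left {A B : Type u} [CommRing A] [CommRing B] {t : Spec (.of A) ⟶ S} {t' : Spec (.of B) ⟶ S}
    (α : A →+* B) (h : Spec.map (CommRingCat.ofHom α) ≫ t = t') : (tm α h).left = Spec.map (CommRingCat.ofHom α) :=
  rfl

theorem tm_comp {A B D : Type u} [CommRing A] [CommRing B] [CommRing D] {t : Spec (.of A) ⟶ S}
    {t' : Spec (.of B) ⟶ S} {t'' : Spec (.of D) ⟶ S} (α : A →+* B) (β : B →+* D) (γ' : A →+* D)
    (h : Spec.map (CommRingCat.ofHom α) ≫ t = t') (h' : Spec.map (CommRingCat.ofHom β) ≫ t' = t'')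
    (h'' : Spec.map (CommRingCat.ofHom γ') ≫ t = t'') (e : β.comp α = γ') :
    tm β h' ≫ tm α h = tm γ' h'' := by
  ext1
  show Spec.map _ ≫ Spec.map _ = Spec.map _
  rw [← Spec.map_comp, ← CommRingCat.ofHom_comp, e]

theorem tm_comm {A B₁ B₂ D : Type u} [CommRing A] [CommRing B₁] [CommRing B₂] [CommRing D] {t : Spec (.of A) ⟶ S}
    {t₁ : Spec (.of B₁) ⟶ S} {t₂ : Spec (.of B₂) ⟶ S} {t'' : Spec (.of D) ⟶ S} (α₁ : A →+* B₁) (β₁ : B₁ →+* D)
    (α₂ : A →+* B₂) (β₂ : B₂ →+* D)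
    (h₁ : Spec.map (CommRingCat.ofHom α₁) ≫ t = t₁) (h₁' : Spec.map (CommRingCat.ofHom β₁) ≫ t₁ = t'')
    (h₂ : Spec.map (CommRingCat.ofHom α₂) ≫ t = t₂) (h₂' : Spec.map (CommRingCat.ofHom β₂) ≫ t₂ = t'')
    (e : β₁.comp α₁ = β₂.comp α₂) :
    tm β₁ h₁' ≫ tm α₁ h₁ = tm β₂ h₂' ≫ tm α₂ h₂ := by
  ext1
  show Spec.map _ ≫ Spec.map _ = Spec.map _ ≫ Spec.map _
  rw [← Spec.map_comp, ← CommRingCat.ofHom_comp, e, CommRingCat.ofHom_comp, Spec.map_comp]

/-- The reduction of a test object. -/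
noncomputable abbrev Ts0 {A : Type u} [CommRing A] (I : Ideal A) (t : Spec (.of A) ⟶ S) : Over S :=
  Ts (A ⧸ I) (Spec.map (CommRingCat.ofHom (Ideal.Quotient.mk I)) ≫ t)

/-- The closed immersion of the reduction. -/
noncomputable abbrev tmk {A : Type u} [CommRing A] (I : Ideal A) (t : Spec (.of A) ⟶ S) : Ts0 I t ⟶ Ts A t :=
  tm (Ideal.Quotient.mk I) rfl

/-- The map of quotients. -/
abbrev qmap {A : Type u} [CommRing A] (E : Ext A) (I : Ideal A) : A ⧸ I →+* E.C ⧸ I.map E.α :=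
  Ideal.quotientMap (I.map E.α) E.α Ideal.le_comap_map

/-- The structure map of an extension. -/
noncomputable abbrev tE {A : Type u} [CommRing A] (E : Ext A) (t : Spec (.of A) ⟶ S) : Spec (.of E.C) ⟶ S :=
  Spec.map (CommRingCat.ofHom E.α) ≫ t

/-- The projection of an extension. -/
noncomputable abbrev pE {A : Type u} [CommRing A] (E : Ext A) (t : Spec (.of A) ⟶ S) : Ts E.C (tE E t) ⟶ Ts A t :=
  tm E.α rfl

theorem qmap_h {A : Type u} [CommRing A] (E : Ext A) (I : Ideal A) (t : Spec (.of A) ⟶ S) :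
    Spec.map (CommRingCat.ofHom (qmap E I)) ≫ Spec.map (CommRingCat.ofHom (Ideal.Quotient.mk I)) ≫ t =
      Spec.map (CommRingCat.ofHom (Ideal.Quotient.mk (I.map E.α))) ≫ tE E t := by
  rw [← Spec.map_comp_assoc, ← Spec.map_comp_assoc, ← CommRingCat.ofHom_comp, ← CommRingCat.ofHom_comp,
    Ideal.quotientMap_comp_mk]

/-- The projection of the reductions. -/
noncomputable abbrev pE0 {A : Type u} [CommRing A] (E : Ext A) (I : Ideal A) (t : Spec (.of A) ⟶ S) :
    Ts0 (I.map E.α) (tE E t) ⟶ Ts0 I t :=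
  tm (qmap E I) (qmap_h E I t)

theorem pE0_tmk {A : Type u} [CommRing A] (E : Ext A) (I : Ideal A) (t : Spec (.of A) ⟶ S) :
    pE0 E I t ≫ tmk I t = tmk (I.map E.α) (tE E t) ≫ pE E t :=
  tm_comm _ _ _ _ _ _ _ _ (Ideal.quotientMap_comp_mk _)

variable {A : Type u} [CommRing A] [IsLocalRing A] [IsArtinianRing A] (E : Ext A) {I : Ideal A}

theorem map_ne_top (hI : I ≠ ⊤) : I.map E.α ≠ ⊤ := by
  refine ne_top_of_le_ne_top (IsLocalRing.maximalIdeal.isMaximal E.C).ne_top
    (Ideal.map_le_iff_le_comap.2 fun a ha => ?_)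
  haveI := E.isLocalHom
  exact fun h => IsLocalRing.le_maximalIdeal hI ha (isUnit_of_map_unit E.α a h)

omit [IsLocalRing A] [IsArtinianRing A] in
theorem map_mul_self (hI : I * I = ⊥) : I.map E.α * I.map E.α = ⊥ := by rw [← Ideal.map_mul, hI, Ideal.map_bot]

omit [IsLocalRing A] [IsArtinianRing A] in
theorem flat_qmap (I : Ideal A) : (qmap E I).Flat := by
  letI : Algebra A E.C := E.α.toAlgebra
  haveI : Module.Flat A E.C := E.flat
  let e : (A ⧸ I) ⊗[A] E.C ≃+* E.C ⧸ I.map E.α :=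
    ((Algebra.TensorProduct.comm A (A ⧸ I) E.C).toRingEquiv.trans
      (Algebra.TensorProduct.quotIdealMapEquivTensorQuot E.C I).symm.toRingEquiv)
  have h : qmap E I = e.toRingHom.comp (algebraMap (A ⧸ I) ((A ⧸ I) ⊗[A] E.C)) := by
    refine Ideal.Quotient.ringHom_ext (RingHom.ext fun a => ?_)
    show Ideal.Quotient.mk _ (E.α a) =
      (Algebra.TensorProduct.quotIdealMapEquivTensorQuot E.C I).symm ((1 : E.C) ⊗ₜ[A] Ideal.Quotient.mk I a)
    refine (AlgEquiv.symm_apply_eq _).2 ?_ |>.symm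
    rw [Algebra.TensorProduct.quotIdealMapEquivTensorQuot_mk]
    show _ = (algebraMap A E.C a) ⊗ₜ[A] (1 : A ⧸ I)
    rw [Algebra.algebraMap_eq_smul_one, TensorProduct.smul_tmul]
    congr 1
    rw [Algebra.smul_def, mul_one]
    rfl
  rw [h]
  exact RingHom.Flat.comp (RingHom.flat_algebraMap_iff.2 inferInstance)
    (RingHom.Flat.of_bijective e.bijective)

theorem flat_pE (t : Spec (.of A) ⟶ S) : Flat (pE E t).left :=
  (HasRingHomProperty.Spec_iff (P := @Flat)).2 E.flat

theorem effectiveEpi_pE (t : Spec (.of A) ⟶ S) : EffectiveEpi (pE E t).left := by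
  haveI := flat_pE E t
  haveI : Surjective (pE E t).left := E.surjective
  haveI : QuasiCompact (pE E t).left :=
    inferInstanceAs (QuasiCompact (Spec.map (CommRingCat.ofHom E.α)))
  infer_instance

theorem epi_pE (t : Spec (.of A) ⟶ S) : Epi (pE E t) := by
  haveI := flat_pE E t
  haveI : Surjective (pE E t).left := E.surjective
  haveI : Epi (pE E t).left := Flat.epi_of_flat_of_surjective _
  exact Over.epi_of_epi_left _

theorem epi_pE0 (hI : I ≠ ⊤) (t : Spec (.of A) ⟶ S) : Epi (pE0 E I t) := by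
  haveI : Flat (pE0 E I t).left := (HasRingHomProperty.Spec_iff (P := @Flat)).2 (flat_qmap E I)
  haveI : IsLocalRing (A ⧸ I) :=
    haveI := Ideal.Quotient.nontrivial_iff.2 hI
    IsLocalRing.of_surjective' (Ideal.Quotient.mk I) Ideal.Quotient.mk_surjective
  haveI : Nontrivial (E.C ⧸ I.map E.α) := Ideal.Quotient.nontrivial_iff.2 (map_ne_top E hI)
  haveI : Surjective (pE0 E I t).left := ⟨fun x => by
    obtain ⟨y⟩ : Nonempty (PrimeSpectrum (E.C ⧸ I.map E.α)) := inferInstance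
    exact ⟨y, Subsingleton.elim (α := PrimeSpectrum (A ⧸ I)) _ _⟩⟩
  haveI : Epi (pE0 E I t).left := Flat.epi_of_flat_of_surjective _
  exact Over.epi_of_epi_left _

end Groth.Agent.NPow20
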