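import Groth.Agent.Lib.NPow20.Lifting
import Mathlib.AlgebraicGeometry.Limits
import Mathlib.RingTheory.Spectrum.Prime.Topology

/-!
# Existence of lifts for the power map of a relative Picard scheme
-/

set_option autoImplicit false
set_option linter.style.haveILetI false
set_option backward.isDefEq.respectTransparency false
set_option backward.isDefEq.respectTransparency.types false

universe u

open CategoryTheory CategoryTheory.Limits AlgebraicGeometry Opposite TensorProduct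

namespace Groth.Agent.NPow20

attribute [local instance] M2.law

/-- Morphisms from the spectrum of an Artinian ring are determined on the local factors. -/
theorem hom_ext_localizations {R : Type u} [CommRing R] [IsArtinianRing R] {Y : Scheme.{u}}
    (g g' : Spec (.of R) ⟶ Y)
    (h : ∀ p : PrimeSpectrum R, Spec.map (CommRingCat.ofHom (algebraMap R (Localization.AtPrime p.asIdeal))) ≫ g =
      Spec.map (CommRingCat.ofHom (algebraMap R (Localization.AtPrime p.asIdeal))) ≫ g') : g = g' := by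
  let R' : PrimeSpectrum R → CommRingCat.{u} := fun p => CommRingCat.of (Localization.AtPrime p.asIdeal)
  let e : CommRingCat.of R ⟶ CommRingCat.of (Π p, R' p) :=
    CommRingCat.ofHom (PrimeSpectrum.toPiLocalization R).toRingHom
  haveI : Finite (PrimeSpectrum R) := inferInstance
  haveI : IsIso e := (ConcreteCategory.isIso_iff_bijective e).2 PrimeSpectrum.toPiLocalization_bijective
  rw [← cancel_epi (Spec.map e), ← cancel_epi (sigmaSpec R')]
  refine Sigma.hom_ext _ _ fun p => ?_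
  rw [ι_sigmaSpec_assoc, ι_sigmaSpec_assoc, ← Spec.map_comp_assoc, ← Spec.map_comp_assoc]
  exact h p

variable {X S : Scheme.{u}} {f : X ⟶ S} {n : ℕ} (D : PowData f n) [IsProper f]
  {A : Type u} [CommRing A] [IsLocalRing A] [IsArtinianRing A] {I : Ideal A} {t : Spec (.of A) ⟶ S}

/-- Lifts exist after a finite flat local extension. -/
theorem exists_local_lift (hI : I ≠ ⊤) (hII : I * I = ⊥) (hn : IsUnit (n : A)) (v : Ts A t ⟶ D.P)
    (v₀ : Ts0 I t ⟶ D.P) (h : v₀ ≫ D.m = tmk I t ≫ v) :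
    ∃ (E : Ext A) (w : Ts E.C (tE E t) ⟶ D.P),
      tmk (I.map E.α) (tE E t) ≫ w = pE0 E I t ≫ v₀ ∧ w ≫ D.m = pE E t ≫ v := by
  obtain ⟨E₁, c₀, hc₀⟩ := exists_ev0 D hI v₀
  let t₁ := tE E₁ t
  let I₁ := I.map E₁.α
  obtain ⟨E₂, l, hl⟩ := exists_ev D (pE E₁ t ≫ v)
  let t₂ := tE E₂ t₁
  let I₂ := I₁.map E₂.α
  have hI₂ : I₂ ≠ ⊤ := map_ne_top E₂ (map_ne_top E₁ hI)
  obtain ⟨c₂, hd₂⟩ : ∃ x, x = pl (PicF.XTmap f (pE0 E₂ I₁ t₁)) c₀ := ⟨_, rfl⟩
  have h2 : D.ev (pl (PicF.XTmap f (tmk I₂ t₂)) l) = D.ev (c₂ ^ n) := by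
    rw [D.ev_pl, hl, D.ev_pow, hd₂, D.ev_pl, hc₀]
    simp only [Category.assoc, h]
    rw [← Category.assoc (tmk I₂ t₂), ← pE0_tmk, Category.assoc, ← Category.assoc (pE0 E₁ I t), pE0_tmk,
      Category.assoc]
  obtain ⟨E₃, h3⟩ := exists_eq0 D hI₂ _ _ h2
  let t₃ := tE E₃ t₂
  let I₃ := I₂.map E₃.α
  rw [map_pow, pl_XTmap, pE0_tmk, ← pl_XTmap] at h3
  obtain ⟨d, ⟨hd, hdn⟩, -⟩ := existsUnique_root_test (f := f) (map_mul_self E₃ (map_mul_self E₂ (map_mul_self E₁ hII)))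
    (E₃.isUnit_natCast (E₂.isUnit_natCast (E₁.isUnit_natCast hn))) _ _ h3
  let E : Ext A := (E₁.comp E₂).comp E₃
  have hC : E.C = E₃.C := rfl
  have hα : E.α = E₃.α.comp (E₂.α.comp E₁.α) := rfl
  have hmap : I.map E.α = I₃ := by
    show I.map (E₃.α.comp (E₂.α.comp E₁.α)) = _
    rw [← Ideal.map_map, ← Ideal.map_map]
  have ht : Spec.map (CommRingCat.ofHom (RingHom.id E₃.C)) ≫ t₃ = tE E t := by
    show _ ≫ Spec.map _ ≫ Spec.map _ ≫ Spec.map _ ≫ t = Spec.map (CommRingCat.ofHom (E₃.α.comp (E₂.α.comp E₁.α))) ≫ t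
    simp only [CommRingCat.ofHom_comp, Spec.map_comp, CommRingCat.ofHom_id, Spec.map_id, Category.id_comp,
      Category.assoc]
  let o : Ts E.C (tE E t) ⟶ Ts E₃.C t₃ := tm (RingHom.id E₃.C) ht
  have hop : o ≫ pE E₃ t₂ ≫ pE E₂ t₁ ≫ pE E₁ t = pE E t := by
    ext1
    show Spec.map _ ≫ Spec.map _ ≫ Spec.map _ ≫ Spec.map _ = Spec.map (CommRingCat.ofHom (E₃.α.comp (E₂.α.comp E₁.α)))
    simp only [CommRingCat.ofHom_comp, Spec.map_comp, CommRingCat.ofHom_id, Spec.map_id, Category.id_comp,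
      Category.assoc]
  let o₀ : Ts0 (I.map E.α) (tE E t) ⟶ Ts0 I₃ t₃ := tm (Ideal.quotEquivOfEq hmap.symm).toRingHom (by
    show _ = Spec.map _ ≫ tE E t
    rw [← ht]
    refine (Category.assoc _ _ _).symm.trans (Eq.trans (congrArg (· ≫ t₃) ?_) (Category.assoc _ _ _))
    rw [← Spec.map_comp, ← Spec.map_comp]
    rfl)
  have ho₀ : o₀ ≫ tmk I₃ t₃ = tmk (I.map E.α) (tE E t) ≫ o := by
    ext1
    show Spec.map _ ≫ Spec.map _ = Spec.map _ ≫ Spec.map _
    rw [← Spec.map_comp, ← Spec.map_comp]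
    congr 1
  have ho₀' : o₀ ≫ pE0 E₃ I₂ t₂ ≫ pE0 E₂ I₁ t₁ ≫ pE0 E₁ I t = pE0 E I t := by
    ext1
    show Spec.map _ ≫ Spec.map _ ≫ Spec.map _ ≫ Spec.map _ = Spec.map _
    rw [← Spec.map_comp, ← Spec.map_comp, ← Spec.map_comp]
    congr 1
    apply CommRingCat.hom_ext
    exact Ideal.Quotient.ringHom_ext rfl
  refine ⟨E, o ≫ D.ev d, ?_, ?_⟩
  · rw [← Category.assoc, ← ho₀, Category.assoc, ← D.ev_pl, hd, D.ev_pl, hd₂, D.ev_pl, hc₀, ← ho₀']
    simp only [Category.assoc]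
  · rw [Category.assoc, ← D.ev_pow, hdn, D.ev_pl, hl, ← hop]
    simp only [Category.assoc]

/-- Lifts exist. -/
theorem exists_lift (hI : I ≠ ⊤) (hII : I * I = ⊥) (hn : IsUnit (n : A)) (v : Ts A t ⟶ D.P)
    (v₀ : Ts0 I t ⟶ D.P) (h : v₀ ≫ D.m = tmk I t ≫ v) :
    ∃ w : Ts A t ⟶ D.P, tmk I t ≫ w = v₀ ∧ w ≫ D.m = v := by
  obtain ⟨E, w, hw₀, hwm⟩ := exists_local_lift D hI hII hn v v₀ h
  letI : Algebra A E.C := E.α.toAlgebra
  haveI : Module.Finite A E.C := E.finite
  haveI : IsArtinianRing (E.C ⊗[A] E.C) := IsArtinianRing.of_finite A _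
  have key : pullback.fst (Spec.map (CommRingCat.ofHom E.α)) (Spec.map (CommRingCat.ofHom E.α)) ≫ w.left =
      pullback.snd (Spec.map (CommRingCat.ofHom E.α)) (Spec.map (CommRingCat.ofHom E.α)) ≫ w.left := by
    show pullback.fst (Spec.map (CommRingCat.ofHom (algebraMap A E.C))) (Spec.map (CommRingCat.ofHom (algebraMap A E.C))) ≫ _ =
      pullback.snd (Spec.map (CommRingCat.ofHom (algebraMap A E.C))) (Spec.map (CommRingCat.ofHom (algebraMap A E.C))) ≫ _
    rw [← cancel_epi (pullbackSpecIso A E.C E.C).inv, pullbackSpecIso_inv_fst_assoc,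
      pullbackSpecIso_inv_snd_assoc]
    refine hom_ext_localizations _ _ fun p => ?_
    rw [← Spec.map_comp_assoc, ← Spec.map_comp_assoc]
    let L := Localization.AtPrime p.asIdeal
    haveI : IsArtinianRing L :=
      (IsArtinianRing.localization_surjective p.asIdeal.primeCompl L).isArtinianRing
    let b₁ : E.C →+* L := (algebraMap (E.C ⊗[A] E.C) L).comp Algebra.TensorProduct.includeLeftRingHom
    let b₂ : E.C →+* L := (algebraMap (E.C ⊗[A] E.C) L).comp
      (RingHomClass.toRingHom (Algebra.TensorProduct.includeRight : E.C →ₐ[A] E.C ⊗[A] E.C))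
    let a : A →+* L := b₁.comp E.α
    have hb₂ : b₂.comp E.α = a := by
      refine RingHom.ext fun r => congrArg (algebraMap (E.C ⊗[A] E.C) L) ?_
      show (1 : E.C) ⊗ₜ[A] algebraMap A E.C r = algebraMap A E.C r ⊗ₜ[A] (1 : E.C)
      rw [Algebra.algebraMap_eq_smul_one, TensorProduct.smul_tmul]
    let t' : Spec (.of L) ⟶ S := Spec.map (CommRingCat.ofHom a) ≫ t
    have e₁ : Spec.map (CommRingCat.ofHom b₁) ≫ tE E t = t' := by
      rw [← Spec.map_comp_assoc, ← CommRingCat.ofHom_comp]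
    have e₂ : Spec.map (CommRingCat.ofHom b₂) ≫ tE E t = t' := by
      rw [← Spec.map_comp_assoc, ← CommRingCat.ofHom_comp, hb₂]
    suffices tm b₁ e₁ ≫ w = tm b₂ e₂ ≫ w from congrArg CommaMorphism.left this
    let J : Ideal L := I.map a
    have hJ₁ : (I.map E.α).map b₁ = J := Ideal.map_map _ _
    have hJ₂ : (I.map E.α).map b₂ = J := by rw [Ideal.map_map, hb₂]
    haveI : IsLocalHom b₁ := ⟨fun c hc => by
      by_contra hh
      have hn : IsNilpotent c := by
        rw [← mem_nilradical, Ring.KrullDimLE.nilradical_eq_maximalIdeal]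
        exact hh
      exact (hn.map b₁).not_isUnit hc⟩
    have hJ : J ≠ ⊤ := by
      rw [← hJ₁]
      refine ne_top_of_le_ne_top (IsLocalRing.maximalIdeal.isMaximal L).ne_top
        (Ideal.map_le_iff_le_comap.2 fun c hc => ?_)
      exact fun hu => IsLocalRing.le_maximalIdeal (map_ne_top E hI) hc (isUnit_of_map_unit b₁ c hu)
    have hJJ : J * J = ⊥ := by rw [← Ideal.map_mul, hII, Ideal.map_bot]
    refine lift_unique D hJ hJJ (map_natCast a n ▸ hn.map a) _ _ ?_ ?_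
    · let q₁ : Ts0 J t' ⟶ Ts0 (I.map E.α) (tE E t) :=
        tm (Ideal.quotientMap J b₁ (by rw [← hJ₁]; exact Ideal.le_comap_map)) (by
          rw [← Spec.map_comp_assoc, ← CommRingCat.ofHom_comp, Ideal.quotientMap_comp_mk, CommRingCat.ofHom_comp,
            Spec.map_comp_assoc, e₁])
      let q₂ : Ts0 J t' ⟶ Ts0 (I.map E.α) (tE E t) :=
        tm (Ideal.quotientMap J b₂ (by rw [← hJ₂]; exact Ideal.le_comap_map)) (by
          rw [← Spec.map_comp_assoc, ← CommRingCat.ofHom_comp, Ideal.quotientMap_comp_mk, CommRingCat.ofHom_comp,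
            Spec.map_comp_assoc, e₂])
      have d₁ : tmk J t' ≫ tm b₁ e₁ = q₁ ≫ tmk (I.map E.α) (tE E t) :=
        (tm_comm _ _ _ _ _ _ _ _ (Ideal.quotientMap_comp_mk _)).symm
      have d₂ : tmk J t' ≫ tm b₂ e₂ = q₂ ≫ tmk (I.map E.α) (tE E t) :=
        (tm_comm _ _ _ _ _ _ _ _ (Ideal.quotientMap_comp_mk _)).symm
      have dq : q₁ ≫ pE0 E I t = q₂ ≫ pE0 E I t := by
        refine tm_comm _ _ _ _ _ _ _ _ (Ideal.Quotient.ringHom_ext (RingHom.ext fun r => ?_))
        exact congrArg (Ideal.Quotient.mk J) (RingHom.congr_fun hb₂ r).symm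
      rw [← Category.assoc, d₁, Category.assoc, hw₀, ← Category.assoc (tmk J t'), d₂, Category.assoc, hw₀,
        ← Category.assoc, dq, Category.assoc]
    · rw [Category.assoc, Category.assoc, hwm, ← Category.assoc, ← Category.assoc]
      congr 1
      exact tm_comm _ _ _ _ _ _ _ _ hb₂.symm
  haveI := effectiveEpi_pE E t
  have hdesc : ∀ {Z : Scheme.{u}} (g₁ g₂ : Z ⟶ Spec (.of E.C)), g₁ ≫ (pE E t).left = g₂ ≫ (pE E t).left →
      g₁ ≫ w.left = g₂ ≫ w.left := fun g₁ g₂ hg => by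
    have := congrArg (pullback.lift g₁ g₂ hg ≫ ·) key
    exact (congrArg (· ≫ w.left) (pullback.lift_fst g₁ g₂ hg)).symm.trans ((Category.assoc _ _ _).trans (this.trans ((Category.assoc _ _ _).symm.trans (congrArg (· ≫ w.left) (pullback.lift_snd g₁ g₂ hg)))))
  let w' : Spec (.of A) ⟶ D.P.left := EffectiveEpi.desc (pE E t).left w.left hdesc
  have hw' : (pE E t).left ≫ w' = w.left := EffectiveEpi.fac _ _ hdesc
  haveI := epi_pE E t
  haveI := epi_pE0 E hI t
  haveI : Epi (pE E t).left := inferInstance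
  let W : Ts A t ⟶ D.P := Over.homMk w' (by
    rw [← cancel_epi (pE E t).left, ← Category.assoc, hw']
    exact Over.w w)
  have hW : pE E t ≫ W = w := by ext1; exact hw'
  refine ⟨W, ?_, ?_⟩
  · rw [← cancel_epi (pE0 E I t), ← Category.assoc, pE0_tmk, Category.assoc, hW, hw₀]
  · rw [← cancel_epi (pE E t), ← Category.assoc, hW, hwm]

end Groth.Agent.NPow20
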