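import Groth.Agent.Lib.NPow20.Units
import Groth.Agent.Lib.FGA3.TorsionLift

/-!
# Unique roots of invertible modules along square zero thickenings of proper schemes
-/

set_option autoImplicit false
set_option linter.style.haveILetI false
set_option backward.isDefEq.respectTransparency false

universe u

open CategoryTheory CategoryTheory.Limits AlgebraicGeometry TopologicalSpace Opposite

namespace Groth.Agent.NPow20

attribute [local instance] M2.law

/-- Pullback on Picard groups. -/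
noncomputable abbrev pl {X Y : Scheme.{u}} (g : X ⟶ Y) : PicLoc.PicSet Y →* PicLoc.PicSet X :=
  PicGrp.pullHom g (M2.pullMul g)

theorem pl_comp {X Y Z : Scheme.{u}} (g : X ⟶ Y) (g' : Y ⟶ Z) (c : PicLoc.PicSet Z) :
    pl (g ≫ g') c = pl g (pl g' c) := PicGrp.pullHom_comp_apply g g' _ _ _ c

theorem pl_id {X : Scheme.{u}} (c : PicLoc.PicSet X) : pl (𝟙 X) c = c := PicGrp.pullHom_id_apply _ c

variable {A : Type u} [CommRing A] [IsLocalRing A] [IsArtinianRing A] {X : Scheme.{u}}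
  (q : X ⟶ Spec (.of A)) [UniversallyClosed q] {n : ℕ}

include q in
omit [UniversallyClosed q] in
theorem isUnit_natCast_top (hn : IsUnit (n : A)) : IsUnit (n : Γ(X, ⊤)) := by
  rw [← map_natCast ((Scheme.ΓSpecIso (.of A)).inv ≫ q.appTop).hom n]
  exact hn.map _

include q in
/-- Roots lift uniquely. -/
theorem existsUnique_root {I : X.IdealSheafData} (hI : I * I = ⊥) (hn : IsUnit (n : A))
    (c : PicLoc.PicSet I.subscheme) (l : PicLoc.PicSet X) (h : pl I.subschemeι l = c ^ n) :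
    ∃! d : PicLoc.PicSet X, pl I.subschemeι d = c ∧ d ^ n = l := by
  have hb := fun k => FGA3.bijective_nsmul_HH (ClSub.idealMod I) k (isUnit_natCast_top q hn)
  have hi : PicGrp.PullMul I.subschemeι := M2.pullMul _
  refine existsUnique_of_exists_of_unique ?_ ?_
  · have h1 : n • PicH1_21.δ₁Add hI (Additive.ofMul c) = 0 := by
      rw [← map_nsmul, ← ofMul_pow]
      exact (PicH1_21.δ₁Add_eq_zero_iff hI hi _).2 ⟨l, h⟩
    obtain ⟨d, hd⟩ := (PicH1_21.δ₁Add_eq_zero_iff hI hi c).1 ((hb 2).1 (h1.trans (smul_zero n).symm))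
    obtain ⟨x, hx⟩ := (PicH1_21.pullHom_eq_one_iff hI hi (l / d ^ n)).1 (by
      rw [map_div, map_pow, hd]; exact div_eq_one.2 h)
    obtain ⟨y, rfl⟩ := (hb 1).2 x
    have hy : pl I.subschemeι (Additive.toMul (PicH1_21.αAdd hI y)) = 1 :=
      (PicH1_21.pullHom_eq_one_iff hI hi _).2 ⟨y, rfl⟩
    refine ⟨d * Additive.toMul (PicH1_21.αAdd hI y), by rw [map_mul, hy, mul_one]; exact hd, ?_⟩
    rw [mul_pow, ← toMul_nsmul, ← map_nsmul, hx]
    exact mul_div_cancel _ _
  · rintro d d' ⟨hd, hdn⟩ ⟨hd', hdn'⟩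
    obtain ⟨x, hx⟩ := (PicH1_21.pullHom_eq_one_iff hI hi (d / d')).1 (by
      show pl I.subschemeι (d / d') = 1
      rw [map_div, hd, hd', div_self'])
    have h2 : PicH1_21.αAdd hI (n • x) = 0 := by
      rw [map_nsmul, hx, ← ofMul_pow, div_pow, hdn, hdn', div_self']
      rfl
    obtain ⟨w, hw⟩ := (PicH1_21.αAdd_eq_zero_iff hI _).1 h2
    obtain ⟨g, v, hgv⟩ := exists_unit_mul_pow q hI hn (Additive.toMul w)
    have hg : PicH1_21.δ₀Add hI (Additive.ofMul (PicH1_21.restUnits I g)) = 0 :=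
      (PicH1_21.δ₀Add_eq_zero_iff hI _).2 ⟨g, rfl⟩
    have h3 : PicH1_21.δ₀Add hI w = n • PicH1_21.δ₀Add hI (Additive.ofMul v) := by
      rw [show w = Additive.ofMul (PicH1_21.restUnits I g) + n • Additive.ofMul v from
        Additive.toMul.injective hgv.symm, map_add, map_nsmul, hg, zero_add]
    have h4 : PicH1_21.δ₀Add hI (Additive.ofMul v) = x := (hb 1).1 (h3.symm.trans hw)
    rw [(PicH1_21.αAdd_eq_zero_iff hI x).2 ⟨_, h4⟩] at hx
    exact div_eq_one.1 (congrArg Additive.toMul hx.symm)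

include q in
/-- Roots lift uniquely along square zero closed immersions. -/
theorem existsUnique_root' {Y : Scheme.{u}} (p : Y ⟶ X) [IsClosedImmersion p] (hI : p.ker * p.ker = ⊥)
    (hn : IsUnit (n : A)) (c : PicLoc.PicSet Y) (l : PicLoc.PicSet X) (h : pl p l = c ^ n) :
    ∃! d : PicLoc.PicSet X, pl p d = c ∧ d ^ n = l := by
  let t : Y ≅ p.ker.subscheme := asIso p.toImage
  have ht : t.hom ≫ p.ker.subschemeι = p := p.toImage_imageι
  have hp : ∀ e : PicLoc.PicSet X, pl p e = pl t.hom (pl p.ker.subschemeι e) := fun e => by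
    rw [← pl_comp]; exact Subtype.ext (by rw [PicGrp.pullHom_apply_val, PicGrp.pullHom_apply_val, ht])
  have h1 : ∀ e : PicLoc.PicSet Y, pl t.hom (pl t.inv e) = e := fun e => by
    rw [← pl_comp]; exact Subtype.ext (by rw [PicGrp.pullHom_apply_val, t.hom_inv_id, PicLoc.pullCl_id])
  have h2 : ∀ e : PicLoc.PicSet p.ker.subscheme, pl t.inv (pl t.hom e) = e := fun e => by
    rw [← pl_comp]; exact Subtype.ext (by rw [PicGrp.pullHom_apply_val, t.inv_hom_id, PicLoc.pullCl_id])
  have key : ∀ d : PicLoc.PicSet X, pl p.ker.subschemeι d = pl t.inv c ↔ pl p d = c := fun d => by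
    rw [hp]
    exact ⟨fun e => by rw [e, h1], fun e => by rw [← e, h2]⟩
  obtain ⟨d, ⟨hd, hdn⟩, hu⟩ := existsUnique_root q (n := n) (I := p.ker) hI hn (pl t.inv c) l
    (by rw [← map_pow, ← h, hp, h2])
  exact ⟨d, ⟨(key d).1 hd, hdn⟩, fun e ⟨he, hen⟩ => hu e ⟨(key e).2 he, hen⟩⟩

end Groth.Agent.NPow20
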