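import Mathlib.AlgebraicGeometry.Stalk
import Mathlib.AlgebraicGeometry.Morphisms.Etale

/-!
# Morphisms out of spectra through stalks
-/

set_option autoImplicit false

universe u

open CategoryTheory AlgebraicGeometry

namespace Groth.Agent.NPow20

variable {X Y : Scheme.{u}}

theorem specMap_fromSpecStalk_comp (f : X ⟶ Y) (x : X) {R : Type u} [CommRing R]
    (g : X.presheaf.stalk x →+* R) :
    (Spec.map (CommRingCat.ofHom g) ≫ X.fromSpecStalk x) ≫ f =
      Spec.map (CommRingCat.ofHom (g.comp (f.stalkMap x).hom)) ≫ Y.fromSpecStalk (f.base x) := by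
  rw [Category.assoc, ← Scheme.SpecMap_stalkMap_fromSpecStalk, ← Spec.map_comp_assoc]
  rfl

theorem specMap_fromSpecStalk_injective (x : X) {R : Type u} [CommRing R] :
    Function.Injective fun g : X.presheaf.stalk x →+* R =>
      Spec.map (CommRingCat.ofHom g) ≫ X.fromSpecStalk x := fun a b hab => by
  simp only [cancel_mono] at hab
  exact congrArg CommRingCat.Hom.hom (Spec.map_injective hab)

theorem exists_specMap_fromSpecStalk {R : Type u} [CommRing R] [IsLocalRing R] (w : Spec (.of R) ⟶ X) (x : X)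
    (h : w.base (IsLocalRing.closedPoint R) = x) :
    ∃ g : X.presheaf.stalk x →+* R, Spec.map (CommRingCat.ofHom g) ≫ X.fromSpecStalk x = w := by
  subst h
  exact ⟨(Scheme.stalkClosedPointTo w).hom, Scheme.Spec_stalkClosedPointTo_fromSpecStalk w⟩

theorem etale_of_locally (f : X ⟶ Y) (V : X.Opens)
    (h : ∀ x ∈ V, ∃ U : X.Opens, x ∈ U ∧ Etale (U.ι ≫ f)) : Etale (V.ι ≫ f) := by
  choose U hxU hU using fun x : V => h x.1 x.2
  refine (IsZariskiLocalAtSource.iff_of_iSup_eq_top (P := @Etale) (fun x : V => V.ι ⁻¹ᵁ U x) ?_).2 fun x => ?_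
  · exact top_le_iff.1 fun y _ => TopologicalSpace.Opens.mem_iSup.2 ⟨y, hxU y⟩
  · haveI := hU x
    rw [← Category.assoc, ← morphismRestrict_ι, Category.assoc]
    infer_instance

end Groth.Agent.NPow20
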