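import Groth.Agent.Lib.ModM1.Stalk
import Mathlib.AlgebraicGeometry.IdealSheaf.Subscheme
import Mathlib.AlgebraicGeometry.Morphisms.ClosedImmersion
import Mathlib.AlgebraicGeometry.Morphisms.Proper
import Mathlib.Dynamics.Newton
import Mathlib.FieldTheory.Perfect
import Mathlib.FieldTheory.Minpoly.Field

/-!
# Units along square zero thickenings: lifts up to `n`-th powers
-/

set_option autoImplicit false
set_option backward.isDefEq.respectTransparency false
set_option backward.isDefEq.respectTransparency.types false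
set_option linter.style.haveILetI false

universe u

open CategoryTheory AlgebraicGeometry TopologicalSpace Opposite Polynomial

namespace Groth.Agent.NPow20

open Groth.Agent.M1

section Algebra

variable {R : Type*} [CommRing R]

/-- Powers of a square zero perturbation. -/
theorem add_pow_sq_zero (a e : R) (he : e * e = 0) (N : ℕ) : (a + e) ^ N = a ^ N + N * a ^ (N - 1) * e := by
  induction N with
  | zero => simp
  | succ N ih =>
    rw [pow_succ, ih, Nat.add_sub_cancel]
    rcases N with - | N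
    · simp
    · rw [Nat.add_sub_cancel]
      push_cast
      linear_combination (((N : R) + 1) * a ^ N) * he

theorem pow_eq_pow_of_sub {a b : R} (N : ℕ) (hN : (N : R) = 0) (h : (a - b) * (a - b) = 0) : a ^ N = b ^ N := by
  have := add_pow_sq_zero b (a - b) h N
  rwa [add_sub_cancel, hN, zero_mul, zero_mul, add_zero] at this

theorem isUnit_of_isNilpotent_sub {a b : R} (hb : IsUnit b) (h : IsNilpotent (a - b)) : IsUnit a := by
  simpa using IsNilpotent.isUnit_add_left_of_commute h hb (Commute.all _ _)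

/-- An integral element of a ring over an Artinian local ring with residue field of characteristic
zero is a root, up to nilpotents, of a monic polynomial with invertible derivative. -/
theorem exists_separable_lift {A B : Type*} [CommRing A] [IsLocalRing A] [IsArtinianRing A]
    [CharZero (IsLocalRing.ResidueField A)] [CommRing B] [Algebra A B] (w : B) (hw : IsIntegral A w) :
    ∃ Q : A[X], IsNilpotent (aeval w Q) ∧ IsUnit (aeval w (derivative Q)) := by
  let k := IsLocalRing.ResidueField A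
  let π : B →+* B ⧸ nilradical B := Ideal.Quotient.mk _
  let j : k →+* B ⧸ nilradical B := Ideal.Quotient.lift (IsLocalRing.maximalIdeal A) (π.comp (algebraMap A B))
    fun a ha => by
      rw [← Ring.KrullDimLE.nilradical_eq_maximalIdeal, mem_nilradical] at ha
      exact Ideal.Quotient.eq_zero_iff_mem.2 (mem_nilradical.2 (ha.map _))
  letI : Algebra k (B ⧸ nilradical B) := j.toAlgebra
  haveI : IsReduced (B ⧸ nilradical B) :=
    (Ideal.isRadical_iff_quotient_reduced _).1 (Ideal.radical_isRadical _)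
  have hc : (algebraMap k (B ⧸ nilradical B)).comp (IsLocalRing.residue A) = π.comp (algebraMap A B) :=
    RingHom.ext fun a => rfl
  have hint : IsIntegral k (π w) := by
    obtain ⟨P, hP, hP0⟩ := hw
    refine ⟨P.map (IsLocalRing.residue A), hP.map _, ?_⟩
    rw [eval₂_map, hc, ← hom_eval₂, hP0, map_zero]
  obtain ⟨q, hq⟩ : ∃ q, q = minpoly k (π w) := ⟨_, rfl⟩
  have hsep : q.Separable := by
    rw [PerfectField.separable_iff_squarefree, hq]
    exact (isRadical_iff_squarefree_of_ne_zero (minpoly.ne_zero hint)).1 (minpoly.isRadical k _)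
  obtain ⟨a, b, hab⟩ := hsep
  have hs : Function.Surjective (Polynomial.map (IsLocalRing.residue A)) :=
    Polynomial.map_surjective _ IsLocalRing.residue_surjective
  obtain ⟨Q, rfl⟩ := hs q
  obtain ⟨a, rfl⟩ := hs a
  obtain ⟨b, rfl⟩ := hs b
  have key : ∀ p : A[X], π (aeval w p) = aeval (π w) (p.map (IsLocalRing.residue A)) := fun p => by
    rw [aeval_def, aeval_def, eval₂_map, hc, hom_eval₂]
  have hQ : IsNilpotent (aeval w Q) := by
    rw [← mem_nilradical, ← Ideal.Quotient.eq_zero_iff_mem]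
    exact (key Q).trans (by rw [hq]; exact minpoly.aeval _ _)
  refine ⟨Q, hQ, ?_⟩
  have h1 : IsNilpotent (aeval w b * aeval w (derivative Q) - 1) := by
    rw [← mem_nilradical, ← Ideal.Quotient.eq_zero_iff_mem]
    show π _ = 0
    have h2 := congrArg (aeval (π w)) hab
    rw [map_add, map_mul, map_mul, map_one, ← key, ← key, Polynomial.derivative_map, ← key, ← key] at h2
    rw [map_sub, map_mul, map_one, sub_eq_zero, ← h2]
    have h0 : π (aeval w Q) = 0 := Ideal.Quotient.eq_zero_iff_mem.2 (mem_nilradical.2 hQ)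
    rw [h0, mul_zero, zero_add]
  exact isUnit_of_mul_isUnit_right (isUnit_of_isNilpotent_sub isUnit_one h1)

/-- An `n`-th root of a unit which is congruent to one modulo nilpotents. -/
theorem exists_root_one_add {n : ℕ} (hn : IsUnit (n : R)) {x : R} (hx : IsNilpotent (x - 1)) :
    ∃ r, IsUnit r ∧ r ^ n = x := by
  let P : R[X] := X ^ n - C x
  have h1 : aeval (1 : R) P = 1 - x := by simp [P]
  have h2 : aeval (1 : R) (derivative P) = n := by simp [P, derivative_X_pow]
  obtain ⟨r, ⟨hr, hr0⟩, -⟩ := Polynomial.existsUnique_nilpotent_sub_and_aeval_eq_zero (S := R) (P := P) (x := 1)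
    (by rw [h1, ← isNilpotent_neg_iff]; simpa using hx) (by rwa [h2])
  refine ⟨r, isUnit_of_isNilpotent_sub isUnit_one (by rw [← isNilpotent_neg_iff]; simpa using hr), ?_⟩
  simpa [P, sub_eq_zero] using hr0

end Algebra

variable {X : Scheme.{u}} {I : X.IdealSheafData}

theorem app_ores {U V : X.Opens} (h : V ≤ U) (a : Γ(X, U)) :
    I.subschemeι.app V (ores h a) = ores (I.subschemeι.preimage_mono h) (I.subschemeι.app U a) :=
  ConcreteCategory.congr_hom (I.subschemeι.naturality (homOfLE h).op) a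

theorem exists_app_eq (U : X.affineOpens) (s : Γ(I.subscheme, I.subschemeι ⁻¹ᵁ U.1)) :
    ∃ a, I.subschemeι.app U.1 a = s :=
  I.subschemeι.app_surjective U.1 U.2 s

theorem mul_eq_zero_of_app (hI : I * I = ⊥) (U : X.affineOpens) {a b : Γ(X, U.1)}
    (ha : I.subschemeι.app U.1 a = 0) (hb : I.subschemeι.app U.1 b = 0) : a * b = 0 := by
  have h : (I * I).ideal U = ⊥ := by rw [hI]; simp
  rw [Scheme.IdealSheafData.ideal_mul, Pi.mul_apply] at h
  rw [← Ideal.mem_bot, ← h]
  refine Ideal.mul_mem_mul ?_ ?_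
  · rw [← Scheme.IdealSheafData.ker_subschemeι_app]; exact ha
  · rw [← Scheme.IdealSheafData.ker_subschemeι_app]; exact hb

theorem isNilpotent_of_app (hI : I * I = ⊥) (U : X.affineOpens) {a : Γ(X, U.1)}
    (h : IsNilpotent (I.subschemeι.app U.1 a)) : IsNilpotent a := by
  obtain ⟨k, hk⟩ := h
  refine ⟨k + k, ?_⟩
  rw [pow_add]
  exact mul_eq_zero_of_app hI U (by rw [map_pow, hk]) (by rw [map_pow, hk])

theorem isUnit_of_app (hI : I * I = ⊥) (U : X.affineOpens) {a : Γ(X, U.1)}
    (h : IsUnit (I.subschemeι.app U.1 a)) : IsUnit a := by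
  obtain ⟨b, hb⟩ := h.exists_right_inv
  obtain ⟨b, rfl⟩ := exists_app_eq U b
  refine isUnit_of_mul_isUnit_left (y := b) (isUnit_of_isNilpotent_sub isUnit_one (isNilpotent_of_app hI U ?_))
  rw [map_sub, map_mul, hb, map_one, sub_self]
  exact IsNilpotent.zero

theorem section_ext {U : X.Opens} {a b : Γ(X, U)}
    (h : ∀ (W : X.affineOpens) (hW : W.1 ≤ U), ores hW a = ores hW b) : a = b := by
  refine TopCat.Presheaf.section_ext X.sheaf U a b fun x hx => ?_
  obtain ⟨W, hW, hxW, hWU⟩ := exists_isAffineOpen_mem_and_subset (X := X) (x := x) (U := U) hx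
  have := congrArg (X.presheaf.germ W x hxW) (h ⟨W, hW⟩ hWU)
  simp only [ores, TopCat.Presheaf.germ_res_apply] at this
  exact this

/-- Compatible uniquely determined affine local sections glue. -/
theorem exists_glue (good : ∀ U : X.affineOpens, Γ(X, U.1) → Prop)
    (hres : ∀ (U V : X.affineOpens) (h : V.1 ≤ U.1) a, good U a → good V (ores h a))
    (huniq : ∀ U a b, good U a → good U b → a = b) (hex : ∀ U, ∃ a, good U a) :
    ∃ g : Γ(X, ⊤), ∀ U : X.affineOpens, good U (ores le_top g) := by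
  choose a ha using hex
  obtain ⟨g, hg, -⟩ := X.sheaf.existsUnique_gluing' (fun U : X.affineOpens => U.1) ⊤ (fun U => homOfLE le_top)
    (fun x _ => by
      obtain ⟨W, hW, hxW, -⟩ := exists_isAffineOpen_mem_and_subset (X := X) (x := x) (U := ⊤) trivial
      exact Opens.mem_iSup.2 ⟨⟨W, hW⟩, hxW⟩) a (fun U V => by
      show ores (inf_le_left : U.1 ⊓ V.1 ≤ U.1) (a U) = ores (inf_le_right : U.1 ⊓ V.1 ≤ V.1) (a V)
      refine section_ext fun W hW => ?_
      rw [ores_ores, ores_ores]
      exact huniq W _ _ (hres U W _ _ (ha U)) (hres V W _ _ (ha V)))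
  exact ⟨g, fun U => by rw [show ores le_top g = a U from hg U]; exact ha U⟩

theorem appTop_eq {g : Γ(X, ⊤)} {s : Γ(I.subscheme, ⊤)}
    (h : ∀ U : X.affineOpens, I.subschemeι.app U.1 (ores le_top g) = ores le_top s) :
    I.subschemeι.appTop g = s := by
  refine TopCat.Presheaf.section_ext I.subscheme.sheaf ⊤ _ s fun y hy => ?_
  obtain ⟨W, hW, hxW, -⟩ := exists_isAffineOpen_mem_and_subset (X := X) (x := I.subschemeι.base y) (U := ⊤) trivial
  have h' := congrArg (I.subscheme.presheaf.germ (I.subschemeι ⁻¹ᵁ W) y hxW) (h ⟨W, hW⟩)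
  rw [app_ores] at h'
  simp only [ores, TopCat.Presheaf.germ_res_apply] at h'
  exact h'

theorem isUnit_of_appTop (hI : I * I = ⊥) {g : Γ(X, ⊤)} (h : IsUnit (I.subschemeι.appTop g)) : IsUnit g := by
  refine RingedSpace.isUnit_of_isUnit_germ X.toSheafedSpace ⊤ g fun x hx => ?_
  obtain ⟨W, hW, hxW, -⟩ := exists_isAffineOpen_mem_and_subset (X := X) (x := x) (U := ⊤) trivial
  have hu : IsUnit (I.subschemeι.app W (ores le_top g)) := by
    rw [app_ores]
    exact h.map _
  have := (isUnit_of_app hI ⟨W, hW⟩ hu).map (X.presheaf.germ W x hxW).hom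
  simpa [ores, TopCat.Presheaf.germ_res_apply] using this

theorem natCast_eq_zero {U : X.Opens} {N : ℕ} (hN : (N : Γ(X, ⊤)) = 0) : (N : Γ(X, U)) = 0 := by
  rw [← map_natCast (ores (le_top : U ≤ ⊤)).hom N, hN, map_zero]

/-- `N`-th powers lift when `N = 0`. -/
theorem exists_lift_pow (hI : I * I = ⊥) {N : ℕ} (hN : (N : Γ(X, ⊤)) = 0) (w : Γ(I.subscheme, ⊤)) :
    ∃ g : Γ(X, ⊤), I.subschemeι.appTop g = w ^ N := by
  obtain ⟨g, hg⟩ := exists_glue (fun U b => ∃ a, I.subschemeι.app U.1 a = ores le_top w ∧ a ^ N = b)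
    (fun U V h b ⟨a, ha, hab⟩ => ⟨ores h a, by rw [app_ores, ha, ores_ores], by rw [← map_pow, hab]⟩)
    (fun U b b' ⟨a, ha, hab⟩ ⟨a', ha', hab'⟩ => by
      have he : I.subschemeι.app U.1 (a - a') = 0 := by rw [map_sub, ha, ha', sub_self]
      rw [← hab, ← hab']
      exact pow_eq_pow_of_sub N (natCast_eq_zero hN) (mul_eq_zero_of_app hI U he he))
    (fun U => by
      obtain ⟨a, ha⟩ := exists_app_eq U (ores le_top w)
      exact ⟨_, a, ha, rfl⟩)
  refine ⟨g, appTop_eq fun U => ?_⟩
  obtain ⟨a, ha, hab⟩ := hg U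
  rw [← hab, map_pow, map_pow, ha]

section Root

variable {A : Type u} [CommRing A]

/-- Simple roots of polynomials lift. -/
theorem exists_lift_root (hI : I * I = ⊥) (ρ : A →+* Γ(X, ⊤)) (Q : A[X]) (c : Γ(I.subscheme, ⊤))
    (hc : Q.eval₂ (I.subschemeι.appTop.hom.comp ρ) c = 0)
    (hu : IsUnit ((derivative Q).eval₂ (I.subschemeι.appTop.hom.comp ρ) c)) :
    ∃ g : Γ(X, ⊤), I.subschemeι.appTop g = c := by
  have hQ : ∀ (U : X.affineOpens) (a : Γ(X, U.1)), I.subschemeι.app U.1 a = ores le_top c →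
      ∀ P : A[X], I.subschemeι.app U.1 (P.eval₂ ((ores le_top).hom.comp ρ) a) =
        ores le_top (P.eval₂ (I.subschemeι.appTop.hom.comp ρ) c) := fun U a ha P => by
    have e : (I.subschemeι.app U.1).hom.comp ((ores (le_top : U.1 ≤ ⊤)).hom.comp ρ) =
        (ores (le_top : I.subschemeι ⁻¹ᵁ U.1 ≤ ⊤)).hom.comp (I.subschemeι.appTop.hom.comp ρ) :=
      RingHom.ext fun r => app_ores _ _
    refine (hom_eval₂ P _ _ _).trans (Eq.trans ?_ (hom_eval₂ P _ _ _).symm)
    rw [e]
    exact congrArg (eval₂ _ · P) ha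
  have key : ∀ (U : X.affineOpens) (a : Γ(X, U.1)), I.subschemeι.app U.1 a = ores le_top c →
      IsNilpotent (Q.eval₂ ((ores le_top).hom.comp ρ) a) ∧ IsUnit ((derivative Q).eval₂ ((ores le_top).hom.comp ρ) a) :=
    fun U a ha => ⟨isNilpotent_of_app hI U (by rw [hQ U a ha, hc, map_zero]; exact IsNilpotent.zero),
      isUnit_of_app hI U (by rw [hQ U a ha]; exact hu.map _)⟩
  obtain ⟨g, hg⟩ := exists_glue
    (fun U a => I.subschemeι.app U.1 a = ores le_top c ∧ Q.eval₂ ((ores le_top).hom.comp ρ) a = 0)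
    (fun U V h a ⟨ha, ha0⟩ => ⟨by rw [app_ores, ha, ores_ores], by
      have := congrArg (ores h).hom ha0
      rw [map_zero, hom_eval₂] at this
      refine Eq.trans ?_ this
      congr 1
      exact RingHom.ext fun r => (ores_ores _ _ _).symm⟩)
    (fun U a b ⟨ha, ha0⟩ ⟨hb, hb0⟩ => by
      letI : Algebra A Γ(X, U.1) := ((ores (le_top : U.1 ≤ ⊤)).hom.comp ρ).toAlgebra
      obtain ⟨r, -, hr⟩ := Polynomial.existsUnique_nilpotent_sub_and_aeval_eq_zero (P := Q) (x := a)
        (key U a ha).1 (key U a ha).2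
      exact (hr a ⟨by simp, ha0⟩).trans (hr b ⟨isNilpotent_of_app hI U (by simp [ha, hb]), hb0⟩).symm)
    (fun U => by
      letI : Algebra A Γ(X, U.1) := ((ores (le_top : U.1 ≤ ⊤)).hom.comp ρ).toAlgebra
      letI : Algebra A Γ(I.subscheme, I.subschemeι ⁻¹ᵁ U.1) :=
        ((ores (le_top : I.subschemeι ⁻¹ᵁ U.1 ≤ ⊤)).hom.comp (I.subschemeι.appTop.hom.comp ρ)).toAlgebra
      obtain ⟨a, ha⟩ := exists_app_eq U (ores le_top c)
      obtain ⟨r, ⟨hr1, hr2⟩, -⟩ := Polynomial.existsUnique_nilpotent_sub_and_aeval_eq_zero (P := Q) (x := a)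
        (key U a ha).1 (key U a ha).2
      refine ⟨r, ?_, hr2⟩
      have hc0 : Q.eval₂ (algebraMap A Γ(I.subscheme, I.subschemeι ⁻¹ᵁ U.1)) (ores le_top c) = 0 := by
        show Q.eval₂ ((ores _).hom.comp _) _ = 0
        rw [← hom_eval₂, hc, map_zero]
      have hu0 : IsUnit ((derivative Q).eval₂ (algebraMap A Γ(I.subscheme, I.subschemeι ⁻¹ᵁ U.1)) (ores le_top c)) := by
        show IsUnit ((derivative Q).eval₂ ((ores _).hom.comp _) _)
        rw [← hom_eval₂]
        exact hu.map _
      obtain ⟨r0, -, hr0⟩ := Polynomial.existsUnique_nilpotent_sub_and_aeval_eq_zero (P := Q)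
        (x := (ores le_top c : Γ(I.subscheme, I.subschemeι ⁻¹ᵁ U.1)))
        (by rw [aeval_def, hc0]; exact IsNilpotent.zero) hu0
      refine (hr0 (I.subschemeι.app U.1 r) ⟨?_, ?_⟩).trans (hr0 _ ⟨by simp, hc0⟩).symm
      · rw [← ha, ← map_sub]
        exact hr1.map _
      · show Q.eval₂ ((ores _).hom.comp _) _ = 0
        have := congrArg (I.subschemeι.app U.1).hom hr2
        rw [map_zero, aeval_def, hom_eval₂] at this
        refine Eq.trans ?_ this
        congr 1
        exact RingHom.ext fun r => (app_ores (le_top : U.1 ≤ ⊤) (ρ r)).symm)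
  exact ⟨g, appTop_eq fun U => (hg U).1⟩

end Root

/-- Units modulo square zero are liftable units times `n`-th powers. -/
theorem exists_unit_mul_pow {A : Type u} [CommRing A] [IsLocalRing A] [IsArtinianRing A]
    (q : X ⟶ Spec (.of A)) [UniversallyClosed q] (hI : I * I = ⊥) {n : ℕ} (hn : IsUnit (n : A))
    (w : Γ(I.subscheme, ⊤)ˣ) :
    ∃ (g : Γ(X, ⊤)ˣ) (v : Γ(I.subscheme, ⊤)ˣ),
      Units.map I.subschemeι.appTop.hom.toMonoidHom g * v ^ n = w := by
  let ρ : A →+* Γ(X, ⊤) := ((Scheme.ΓSpecIso (.of A)).inv ≫ q.appTop).hom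
  obtain ⟨p, hp⟩ := CharP.exists (IsLocalRing.ResidueField A)
  rcases CharP.char_is_prime_or_zero (IsLocalRing.ResidueField A) p with hpp | rfl
  · obtain ⟨k, hk⟩ : IsNilpotent (p : A) := by
      rw [← mem_nilradical, Ring.KrullDimLE.nilradical_eq_maximalIdeal, ← IsLocalRing.residue_eq_zero_iff,
        map_natCast]
      exact CharP.cast_eq_zero _ p
    have hN : ((p ^ k : ℕ) : Γ(X, ⊤)) = 0 := by rw [← map_natCast ρ, Nat.cast_pow, hk, map_zero]
    have hcop : IsCoprime (n : ℤ) ((p ^ k : ℕ) : ℤ) := by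
      rw [Nat.isCoprime_iff_coprime]
      refine Nat.Coprime.pow_right k ((Nat.coprime_comm.1 ((Nat.Prime.coprime_iff_not_dvd hpp).2 fun hd => ?_)))
      obtain ⟨m, rfl⟩ := hd
      have := hn.map (IsLocalRing.residue A)
      rw [map_natCast, Nat.cast_mul, CharP.cast_eq_zero, zero_mul] at this
      exact not_isUnit_zero this
    obtain ⟨a, b, hab⟩ := hcop
    obtain ⟨g, hg⟩ := exists_lift_pow hI hN (w : Γ(I.subscheme, ⊤))
    have hgu : IsUnit g := isUnit_of_appTop hI (by rw [hg]; exact w.isUnit.pow _)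
    have hG : Units.map I.subschemeι.appTop.hom.toMonoidHom hgu.unit = w ^ ((p ^ k : ℕ) : ℤ) :=
      Units.ext (by rw [zpow_natCast, Units.val_pow_eq_pow_val]; exact hg)
    refine ⟨hgu.unit ^ b, w ^ a, ?_⟩
    rw [map_zpow, hG, ← zpow_natCast, ← zpow_mul, ← zpow_mul, ← zpow_add]
    conv_rhs => rw [← zpow_one w, ← hab]
    congr 1
    ring
  · haveI : CharZero (IsLocalRing.ResidueField A) := CharP.charP_to_charZero _
    let ρ₀ : A →+* Γ(I.subscheme, ⊤) := I.subschemeι.appTop.hom.comp ρ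
    letI : Algebra A Γ(I.subscheme, ⊤) := ρ₀.toAlgebra
    have hint : IsIntegral A (w : Γ(I.subscheme, ⊤)) := by
      have h1 := isIntegral_appTop_of_universallyClosed (I.subschemeι ≫ q)
      exact (RingHom.IsIntegral.trans (Scheme.ΓSpecIso (.of A)).inv.hom (I.subschemeι ≫ q).appTop.hom
        (RingHom.isIntegral_of_surjective _ (ConcreteCategory.bijective_of_isIso _).2) h1) w
    obtain ⟨Q, hQ, hQ'⟩ := exists_separable_lift (w : Γ(I.subscheme, ⊤)) hint
    obtain ⟨c, ⟨hc1, hc2⟩, -⟩ := Polynomial.existsUnique_nilpotent_sub_and_aeval_eq_zero (P := Q) hQ hQ'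
    have hcu : IsUnit c := isUnit_of_isNilpotent_sub w.isUnit (by rw [← isNilpotent_neg_iff, neg_sub]; exact hc1)
    obtain ⟨g, hg⟩ := exists_lift_root hI ρ Q c hc2
      (isUnit_aeval_of_isUnit_aeval_of_isNilpotent_sub hQ' (by rw [← isNilpotent_neg_iff, neg_sub]; exact hc1))
    have hgu : IsUnit g := isUnit_of_appTop hI (by rw [hg]; exact hcu)
    obtain ⟨r, hr, hrn⟩ := exists_root_one_add (R := Γ(I.subscheme, ⊤)) (n := n)
      (by rw [← map_natCast ρ₀]; exact hn.map ρ₀)
      (x := (↑hcu.unit⁻¹ : Γ(I.subscheme, ⊤)) * w) (by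
        have : (↑hcu.unit⁻¹ : Γ(I.subscheme, ⊤)) * w - 1 = ↑hcu.unit⁻¹ * (w - c) := by
          rw [mul_sub, IsUnit.val_inv_mul]
        rw [this]
        exact (Commute.all _ _).isNilpotent_mul_left hc1)
    refine ⟨hgu.unit, hr.unit, Units.ext ?_⟩
    rw [Units.val_mul, Units.val_pow_eq_pow_val, IsUnit.unit_spec, hrn]
    show I.subschemeι.appTop g * _ = _
    rw [hg, ← mul_assoc, IsUnit.mul_val_inv, one_mul]

end Groth.Agent.NPow20
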